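import Groth.Agent.H5.KInj.Derives
import Mathlib.Algebra.Homology.Localization
import Mathlib.CategoryTheory.Adjunction.FullyFaithful

/-!
# Right derived functors on the unbounded derived category of a Grothendieck abelian category:
transfer between the homotopy category level and the level of complexes, and derived adjunctions

* `toC X RF β`, `isRightDerivedFunctor_iff_toC`: a functor `RF : D(A) ⥤ H` with unit
  `β : X ⟶ Qh ⋙ RF` is a right derived functor of `X : K(A) ⥤ H` (with respect to `Qh`) iff it
  is a right derived functor of `quotient ⋙ X` with respect to `Q`.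
* `isIso_app_quotient_of_isKInjective`: the unit is an isomorphism on K-injective complexes.
* `unitC G RG β`, `isRightDerivedFunctor_unitC`: the special case `X = G.mapHomotopyCategory ⋙ Qh`.
* `exists_derivedAdj`: if `F ⊣ G` with `F` exact, then `F.mapDerivedCategory ⊣ RG`, with a formula
  for the counit.
* `isIso_counit_of_isIso_counit`: if moreover the counit of `F ⊣ G` is an isomorphism, then so is
  the counit of the derived adjunction.
-/

set_option autoImplicit false
universe w w' v u v' u' v'' u''
open CategoryTheory Limits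

namespace Groth.Agent.H5.KInjDer

section Transfer

variable {A : Type u} [Category.{v} A] [Abelian A] [HasDerivedCategory.{w} A]
  {H : Type u'} [Category.{v'} H]
  (X : HomotopyCategory A (ComplexShape.up ℤ) ⥤ H) (RF : DerivedCategory A ⥤ H)
  (β : X ⟶ DerivedCategory.Qh ⋙ RF)

/-- The unit at the level of complexes. -/
noncomputable def toC :
    HomotopyCategory.quotient A (ComplexShape.up ℤ) ⋙ X ⟶ DerivedCategory.Q ⋙ RF :=
  Functor.whiskerLeft (HomotopyCategory.quotient A (ComplexShape.up ℤ)) β ≫
    (Functor.associator _ _ _).inv ≫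
    Functor.whiskerRight (DerivedCategory.quotientCompQhIso A).hom RF

theorem toC_app (K : CochainComplex A ℤ) :
    (toC X RF β).app K = β.app ((HomotopyCategory.quotient A (ComplexShape.up ℤ)).obj K) ≫
      RF.map ((DerivedCategory.quotientCompQhIso A).hom.app K) := by
  simp [toC]

theorem isRightDerivedFunctor_iff_toC :
    RF.IsRightDerivedFunctor β (HomotopyCategory.quasiIso A (ComplexShape.up ℤ)) ↔
      RF.IsRightDerivedFunctor (toC X RF β)
        (HomologicalComplex.quasiIso A (ComplexShape.up ℤ)) := by
  have h0 : X.IsRightDerivedFunctor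
      (Iso.refl (HomotopyCategory.quotient A (ComplexShape.up ℤ) ⋙ X)).inv
      (HomologicalComplex.homotopyEquivalences A (ComplexShape.up ℤ)) :=
    Functor.isRightDerivedFunctor_of_inverts _ X (Iso.refl _)
  have h1 : X.IsLeftKanExtension (𝟙 (HomotopyCategory.quotient A (ComplexShape.up ℤ) ⋙ X)) :=
    (Functor.isRightDerivedFunctor_iff_isLeftKanExtension _ _ _).1 h0
  rw [Functor.isRightDerivedFunctor_iff_isLeftKanExtension,
    Functor.isRightDerivedFunctor_iff_isLeftKanExtension]
  exact Functor.isLeftKanExtension_iff_postcompose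
    (𝟙 (HomotopyCategory.quotient A (ComplexShape.up ℤ) ⋙ X)) DerivedCategory.Q
    (DerivedCategory.quotientCompQhIso A) β (toC X RF β) (Category.id_comp _)

theorem inverts_quotient_comp :
    (HomologicalComplex.homotopyEquivalences A (ComplexShape.up ℤ)).IsInvertedBy
      (HomotopyCategory.quotient A (ComplexShape.up ℤ) ⋙ X) := fun K L f hf => by
  have := HomotopyCategory.quotient_inverts_homotopyEquivalences A (ComplexShape.up ℤ) f hf
  exact inferInstanceAs (IsIso (X.map ((HomotopyCategory.quotient A (ComplexShape.up ℤ)).map f)))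

variable [IsGrothendieckAbelian.{v} A]

/-- The unit of a right derived functor (on the homotopy category level) is an isomorphism on
K-injective complexes. -/
theorem isIso_app_quotient_of_isKInjective
    [RF.IsRightDerivedFunctor β (HomotopyCategory.quasiIso A (ComplexShape.up ℤ))]
    (I : CochainComplex A ℤ) [I.IsKInjective] :
    IsIso (β.app ((HomotopyCategory.quotient A (ComplexShape.up ℤ)).obj I)) := by
  have h : RF.IsRightDerivedFunctor (toC X RF β)
      (HomologicalComplex.quasiIso A (ComplexShape.up ℤ)) :=
    (isRightDerivedFunctor_iff_toC X RF β).1 inferInstance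
  have h2 := isIso_app_of_isKInjective _ (inverts_quotient_comp X) (toC X RF β) I
  rw [toC_app] at h2
  exact IsIso.of_isIso_comp_right _ (RF.map ((DerivedCategory.quotientCompQhIso A).hom.app I))

end Transfer

section UnitC

variable {A : Type u'} [Category.{v'} A] [Abelian A] [HasDerivedCategory.{w'} A]
  {B : Type u} [Category.{v} B] [Abelian B] [HasDerivedCategory.{w} B]
  (G : B ⥤ A) [G.Additive]

/-- The canonical isomorphism `G_* ⋙ Q ≅ quotient ⋙ (G.mapHomotopyCategory ⋙ Qh)`. -/
noncomputable def isoC :
    G.mapHomologicalComplex (ComplexShape.up ℤ) ⋙ DerivedCategory.Q ≅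
      HomotopyCategory.quotient B (ComplexShape.up ℤ) ⋙
        (G.mapHomotopyCategory (ComplexShape.up ℤ) ⋙ DerivedCategory.Qh) :=
  Functor.isoWhiskerLeft _ (DerivedCategory.quotientCompQhIso A).symm ≪≫
    (Functor.associator _ _ _).symm ≪≫
    Functor.isoWhiskerRight (G.mapHomotopyCategoryFactors (ComplexShape.up ℤ)).symm _ ≪≫
    Functor.associator _ _ _

variable (RG : DerivedCategory B ⥤ DerivedCategory A)
  (β : G.mapHomotopyCategory (ComplexShape.up ℤ) ⋙ DerivedCategory.Qh ⟶ DerivedCategory.Qh ⋙ RG)

/-- The unit on the level of complexes of a right derived functor of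
`G.mapHomotopyCategory ⋙ Qh`. -/
noncomputable def unitC :
    G.mapHomologicalComplex (ComplexShape.up ℤ) ⋙ DerivedCategory.Q ⟶ DerivedCategory.Q ⋙ RG :=
  (isoC G).hom ≫ toC _ RG β

theorem isRightDerivedFunctor_unitC
    [RG.IsRightDerivedFunctor β (HomotopyCategory.quasiIso B (ComplexShape.up ℤ))] :
    RG.IsRightDerivedFunctor (unitC G RG β)
      (HomologicalComplex.quasiIso B (ComplexShape.up ℤ)) := by
  have h : RG.IsRightDerivedFunctor (toC _ RG β)
      (HomologicalComplex.quasiIso B (ComplexShape.up ℤ)) :=
    (isRightDerivedFunctor_iff_toC _ RG β).1 inferInstance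
  rw [Functor.isRightDerivedFunctor_iff_isLeftKanExtension] at h ⊢
  exact (Functor.isLeftKanExtension_iff_of_iso₂ (unitC G RG β) (toC _ RG β) (isoC G)
    (Iso.refl RG) (by simp [unitC])).2 h

end UnitC

section Adjunction

variable {A : Type u'} [Category.{v'} A] [Abelian A] [HasDerivedCategory.{w'} A]
  {B : Type u} [Category.{v} B] [Abelian B] [IsGrothendieckAbelian.{v} B]
  [HasDerivedCategory.{w} B]
  {F : A ⥤ B} {G : B ⥤ A} (adj : F ⊣ G) [F.Additive] [G.Additive]
  [PreservesFiniteLimits F] [PreservesFiniteColimits F]
  (RG : DerivedCategory B ⥤ DerivedCategory A)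
  (α : G.mapHomologicalComplex (ComplexShape.up ℤ) ⋙ DerivedCategory.Q ⟶ DerivedCategory.Q ⋙ RG)
  [RG.IsRightDerivedFunctor α (HomologicalComplex.quasiIso B (ComplexShape.up ℤ))]

/-- If `F ⊣ G` with `F` exact and the target of `F` Grothendieck abelian, then
`F.mapDerivedCategory` is left adjoint to any right derived functor of `G`; the counit is
characterized by the expected formula. -/
theorem exists_derivedAdj :
    ∃ adjD : F.mapDerivedCategory ⊣ RG, ∀ I : CochainComplex B ℤ,
      F.mapDerivedCategory.map (α.app I) ≫ adjD.counit.app (DerivedCategory.Q.obj I) =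
        F.mapDerivedCategoryFactors.hom.app
          ((G.mapHomologicalComplex (ComplexShape.up ℤ)).obj I) ≫
        DerivedCategory.Q.map ((adjC adj (ComplexShape.up ℤ)).counit.app I) := by
  let e := F.mapDerivedCategoryFactors
  have h1 : F.mapDerivedCategory.IsLeftDerivedFunctor e.hom
      (HomologicalComplex.quasiIso A (ComplexShape.up ℤ)) :=
    Functor.isLeftDerivedFunctor_of_inverts _ _ e
  have h2 : (F.mapDerivedCategory ⋙ RG).IsLeftDerivedFunctor
      ((Functor.associator _ _ _).inv ≫ Functor.whiskerRight e.hom RG)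
      (HomologicalComplex.quasiIso A (ComplexShape.up ℤ)) :=
    Functor.isLeftDerivedFunctor_of_inverts _ _
      ((Functor.associator _ _ _).symm ≪≫ Functor.isoWhiskerRight e RG)
  have h3 : (RG ⋙ F.mapDerivedCategory).IsRightDerivedFunctor
      (Functor.whiskerRight α F.mapDerivedCategory ≫ (Functor.associator _ _ _).hom)
      (HomologicalComplex.quasiIso B (ComplexShape.up ℤ)) :=
    isRightDerivedFunctor_comp _ (inverts_map_Q G) α F.mapDerivedCategory
  exact ⟨(adjC adj (ComplexShape.up ℤ)).derived
    (HomologicalComplex.quasiIso A (ComplexShape.up ℤ))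
    (HomologicalComplex.quasiIso B (ComplexShape.up ℤ)) e.hom α,
    fun I => (adjC adj (ComplexShape.up ℤ)).derivedε_fac_app
      (HomologicalComplex.quasiIso B (ComplexShape.up ℤ)) e.hom α I⟩

/-- If the counit of `F ⊣ G` is an isomorphism, then so is the counit of the derived
adjunction. -/
theorem isIso_counit_of_isIso_counit [IsIso adj.counit] (adjD : F.mapDerivedCategory ⊣ RG)
    (hfac : ∀ I : CochainComplex B ℤ,
      F.mapDerivedCategory.map (α.app I) ≫ adjD.counit.app (DerivedCategory.Q.obj I) =
        F.mapDerivedCategoryFactors.hom.app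
          ((G.mapHomologicalComplex (ComplexShape.up ℤ)).obj I) ≫
        DerivedCategory.Q.map ((adjC adj (ComplexShape.up ℤ)).counit.app I)) :
    IsIso adjD.counit := by
  rw [NatTrans.isIso_iff_isIso_app]
  intro Y
  let K := DerivedCategory.Q.objPreimage Y
  let eY : DerivedCategory.Q.obj K ≅ Y := DerivedCategory.Q.objObjPreimageIso Y
  let I := (ρ₀ B).obj K
  have hI : I.IsKInjective := ρ₀_kinj B K
  have hq : IsIso (DerivedCategory.Q.map ((ι B).app K)) :=
    Localization.inverts DerivedCategory.Q
      (HomologicalComplex.quasiIso B (ComplexShape.up ℤ)) _ (ι_mem B K)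
  let e' : DerivedCategory.Q.obj I ≅ Y := (asIso (DerivedCategory.Q.map ((ι B).app K))).symm ≪≫ eY
  rw [← NatTrans.isIso_app_iff_of_iso adjD.counit e']
  have h1 : IsIso (α.app I) := isIso_app_of_isKInjective _ (inverts_map_Q G) α I
  have h2 : IsIso ((adjC adj (ComplexShape.up ℤ)).counit.app I) := by
    have : ∀ n, IsIso (((adjC adj (ComplexShape.up ℤ)).counit.app I).f n) := fun n =>
      inferInstanceAs (IsIso (adj.counit.app (I.X n)))
    exact HomologicalComplex.Hom.isIso_of_components _
  exact IsIso.of_isIso_fac_left (hfac I)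

end Adjunction

end Groth.Agent.H5.KInjDer
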