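import Mathlib.CategoryTheory.Abelian.GrothendieckCategory.EnoughInjectives

/-!
# Transfinite decompositions of monomorphisms in a Grothendieck abelian category

This is an abstract version of the argument in
`Mathlib.CategoryTheory.Abelian.GrothendieckCategory.EnoughInjectives`: if any "good" proper
subobject `B` of `X` can be enlarged by a morphism in a class `𝒟`, and if goodness is
inherited along transfinite compositions (in the form: subobjects `B ≥ A₀` such that
`A₀ ⟶ B` is in a left lifting class containing `𝒟` are good), then `A₀ ⟶ X` is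
a transfinite composition of morphisms in `𝒟`.
-/

set_option autoImplicit false
universe w v u

namespace Groth.Agent.H5.Decomp

open CategoryTheory Limits MorphismProperty

variable {C : Type u} [Category.{v} C] [Abelian C] {X : C}

theorem isIso_ofLE {B B' : Subobject X} (h : B ≤ B') (h' : B' ≤ B) :
    IsIso (Subobject.ofLE B B' h) :=
  ⟨Subobject.ofLE B' B h', by simp, by simp⟩

theorem mem_ofLE_of_eq (W : MorphismProperty C) {A' A₀ B : Subobject X} (e : A' = A₀)
    (h : A' ≤ B) (h' : A₀ ≤ B) (hW : W (Subobject.ofLE A' B h)) : W (Subobject.ofLE A₀ B h') := by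
  subst e
  exact hW

section Sigma

variable (𝒟 : MorphismProperty C) (Good : Subobject X → Prop)
  (H1 : ∀ B : Subobject X, Good B → B ≠ ⊤ →
    ∃ (B' : Subobject X) (h : B < B'), 𝒟 (Subobject.ofLE B B' h.le))

open Classical in
/-- The enlarging function on subobjects. -/
noncomputable def σ (B : Subobject X) : Subobject X :=
  if h : Good B ∧ B ≠ ⊤ then (H1 B h.1 h.2).choose else ⊤

lemma σ_top : σ 𝒟 Good H1 ⊤ = ⊤ := dif_neg (fun h => h.2 rfl)

lemma lt_σ (B : Subobject X) (hB : B ≠ ⊤) : B < σ 𝒟 Good H1 B := by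
  by_cases h : Good B
  · rw [σ, dif_pos ⟨h, hB⟩]
    exact (H1 B h hB).choose_spec.choose
  · rw [σ, dif_neg (fun h' => h h'.1)]
    exact lt_top_iff_ne_top.2 hB

lemma le_σ (B : Subobject X) : B ≤ σ 𝒟 Good H1 B := by
  by_cases hB : B = ⊤
  · subst hB
    rw [σ_top]
  · exact (lt_σ 𝒟 Good H1 B hB).le

lemma mem_ofLE_σ (Hiso : ∀ {Y Z : C} (f : Y ⟶ Z), IsIso f → 𝒟 f) (B : Subobject X)
    (hB : Good B) : 𝒟 (Subobject.ofLE _ _ (le_σ 𝒟 Good H1 B)) := by
  have key : ∀ (B' : Subobject X) (_ : B' = σ 𝒟 Good H1 B) (h : B ≤ B'),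
      𝒟 (Subobject.ofLE B B' h) → 𝒟 (Subobject.ofLE B _ (le_σ 𝒟 Good H1 B)) := by
    intro B' e h hd
    subst e
    exact hd
  by_cases hB' : B = ⊤
  · apply Hiso
    have e : σ 𝒟 Good H1 B = B := by rw [hB', σ_top]
    exact isIso_ofLE _ (le_of_eq e)
  · have hspec := (H1 B hB hB').choose_spec
    exact key _ (by rw [σ, dif_pos ⟨hB, hB'⟩]) _ hspec.choose_spec

end Sigma

section Generic

variable [IsGrothendieckAbelian.{w} C]
variable (s : Subobject X → Subobject X) (hs : ∀ B, B ≤ s B) (A₀ : Subobject X)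

lemma top_mem_range {J : Type w} [LinearOrder J] [OrderBot J] [SuccOrder J]
    [WellFoundedLT J] (hs' : ∀ B ≠ (⊤ : Subobject X), B < s B) (hst : s ⊤ = ⊤)
    (hJ : HasCardinalLT (Subobject X) (Cardinal.mk J)) :
    ∃ (j : J), transfiniteIterate s j A₀ = ⊤ :=
  top_mem_range_transfiniteIterate s A₀ hs' hst
    (fun h ↦ by simpa [hasCardinalLT_iff_cardinal_mk_lt] using hJ.of_injective _ h)

lemma exists_ordinal (hs' : ∀ B ≠ (⊤ : Subobject X), B < s B) (hst : s ⊤ = ⊤) :
    ∃ (o : Ordinal.{w}) (j : o.ToType), transfiniteIterate s j A₀ = ⊤ := by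
  let κ := Order.succ (Cardinal.mk (Shrink.{w} (Subobject X)))
  have : Nonempty κ.ord.ToType := by simp [κ]
  have := WellFoundedLT.toOrderBot κ.ord.ToType
  exact ⟨κ.ord, top_mem_range s A₀ hs' hst
    (lt_of_lt_of_le (Order.lt_succ _) (by simp [κ]))⟩

variable (J : Type w) [LinearOrder J] [OrderBot J] [SuccOrder J] [WellFoundedLT J]

/-- The functor `J ⥤ MonoOver X` given by the transfinite iteration of `s`. -/
@[simps]
noncomputable def functorToMonoOver : J ⥤ MonoOver X where
  obj j := MonoOver.mk (transfiniteIterate s j A₀).arrow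
  map {j j'} f := MonoOver.homMk (Subobject.ofLE _ _
      (monotone_transfiniteIterate _ _ hs (leOfHom f)))

/-- The functor `J ⥤ C` induced by `functorToMonoOver`. -/
noncomputable abbrev functor : J ⥤ C :=
  functorToMonoOver s hs A₀ J ⋙ MonoOver.forget _ ⋙ Over.forget _

set_option backward.defeqAttrib.useBackward true in
instance : (functor s hs A₀ J).IsWellOrderContinuous where
  nonempty_isColimit m hm := ⟨by
    have := hm.nonempty_Iio.to_subtype
    let c := (Set.principalSegIio m).cocone (functorToMonoOver s hs A₀ J ⋙ MonoOver.forget _)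
    have : Mono c.pt.hom := by dsimp [c]; infer_instance
    apply IsGrothendieckAbelian.isColimitMapCoconeOfSubobjectMkEqISup
      ((Set.principalSegIio m).monotone.functor ⋙ functorToMonoOver s hs A₀ J) c
    dsimp [c]
    simp only [Subobject.mk_arrow]
    exact transfiniteIterate_limit s A₀ m hm⟩

set_option backward.isDefEq.respectTransparency.types false in
set_option backward.defeqAttrib.useBackward true in
variable {J} in
/-- The map from the bottom to the `j`-th iterate is a transfinite composition. -/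
noncomputable def tcMapFromBot (W : MorphismProperty C) (j : J)
    (hmem : ∀ k : J, k < j → W (Subobject.ofLE _ _ (hs (transfiniteIterate s k A₀)))) :
    W.TransfiniteCompositionOfShape (Set.Iic j)
    ((functor s hs A₀ J).map (homOfLE bot_le : ⊥ ⟶ j)) where
  F := (Set.initialSegIic j).monotone.functor ⋙ functor s hs A₀ J
  isoBot := Iso.refl _
  incl :=
    { app k := (functor s hs A₀ J).map (homOfLE k.2)
      naturality k k' h := by simp [MonoOver.forget] }
  isColimit := colimitOfDiagramTerminal isTerminalTop _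
  map_mem k hk := by
    have hlt : k.1 < j := lt_of_le_of_ne k.2 (fun e => hk (fun b _ => by
      change b.1 ≤ k.1
      rw [e]
      exact b.2))
    dsimp [MonoOver.forget]
    convert! hmem k.1 hlt using 2
    all_goals
      rw [Set.Iic.succ_eq_of_not_isMax hk,
        transfiniteIterate_succ _ _ _ (Set.not_isMax_coe _ hk)]

set_option backward.defeqAttrib.useBackward true in
set_option backward.isDefEq.respectTransparency false in
variable {J} in
/-- If the `j`-th iterate is `⊤`, then `A₀.arrow` is a transfinite composition. -/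
noncomputable def tcOfEqTop (W : MorphismProperty C) {j : J}
    (hmem : ∀ k : J, k < j → W (Subobject.ofLE _ _ (hs (transfiniteIterate s k A₀))))
    (hj : transfiniteIterate s j A₀ = ⊤) :
    W.TransfiniteCompositionOfShape (Set.Iic j) A₀.arrow := by
  let t := transfiniteIterate s j A₀
  have := (Subobject.isIso_arrow_iff_eq_top t).2 hj
  apply (tcMapFromBot s hs A₀ W j hmem).ofArrowIso
  refine Arrow.isoMk (Subobject.isoOfEq _ _ (transfiniteIterate_bot _ _)) (asIso t.arrow) ?_
  dsimp [MonoOver.forget]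
  rw [Subobject.ofLE_arrow, Subobject.ofLE_arrow]

end Generic

/-- The abstract decomposition theorem. -/
theorem exists_tc [IsGrothendieckAbelian.{w} C] (𝒟 T : MorphismProperty C) (h𝒟 : 𝒟 ≤ T.llp)
    (Hiso : ∀ {Y Z : C} (f : Y ⟶ Z), IsIso f → 𝒟 f)
    (Good : Subobject X → Prop)
    (H1 : ∀ B : Subobject X, Good B → B ≠ ⊤ →
      ∃ (B' : Subobject X) (h : B < B'), 𝒟 (Subobject.ofLE B B' h.le))
    (A₀ : Subobject X)
    (H3 : ∀ (B : Subobject X) (hle : A₀ ≤ B), T.llp (Subobject.ofLE A₀ B hle) → Good B) :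
    ∃ (J : Type w) (_ : LinearOrder J) (_ : OrderBot J) (_ : SuccOrder J)
      (_ : WellFoundedLT J), Nonempty (𝒟.TransfiniteCompositionOfShape J A₀.arrow) := by
  obtain ⟨o, j, hj⟩ := exists_ordinal (σ 𝒟 Good H1) A₀ (lt_σ 𝒟 Good H1) (σ_top 𝒟 Good H1)
  have : Nonempty o.ToType := ⟨j⟩
  have : OrderBot o.ToType := WellFoundedLT.toOrderBot _
  have hgood : ∀ k : o.ToType, Good (transfiniteIterate (σ 𝒟 Good H1) k A₀) := by
    intro k
    induction k using WellFoundedLT.induction with
    | _ k ih =>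
      have tc := tcMapFromBot (σ 𝒟 Good H1) (le_σ 𝒟 Good H1) A₀ 𝒟 k
        (fun k' hk' => mem_ofLE_σ 𝒟 Good H1 Hiso _ (ih k' hk'))
      have h1 : T.llp ((functor (σ 𝒟 Good H1) (le_σ 𝒟 Good H1) A₀ o.ToType).map
          (homOfLE bot_le : ⊥ ⟶ k)) :=
        T.llp.transfiniteCompositionsOfShape_le (Set.Iic k) _
          (transfiniteCompositionsOfShape_monotone _ h𝒟 _ tc.mem)
      have h2 : T.llp (Subobject.ofLE (transfiniteIterate (σ 𝒟 Good H1) ⊥ A₀)
          (transfiniteIterate (σ 𝒟 Good H1) k A₀)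
          (monotone_transfiniteIterate _ _ (le_σ 𝒟 Good H1) bot_le)) := h1
      have hle : A₀ ≤ transfiniteIterate (σ 𝒟 Good H1) k A₀ := by
        have := monotone_transfiniteIterate (σ 𝒟 Good H1) A₀ (le_σ 𝒟 Good H1)
          (bot_le : (⊥ : o.ToType) ≤ k)
        simpa using this
      exact H3 _ hle (mem_ofLE_of_eq _ (transfiniteIterate_bot _ _) _ hle h2)
  exact ⟨_, _, _, _, _,
    ⟨tcOfEqTop (σ 𝒟 Good H1) (le_σ 𝒟 Good H1) A₀ 𝒟
      (fun k _ => mem_ofLE_σ 𝒟 Good H1 Hiso _ (hgood k)) hj⟩⟩

end Groth.Agent.H5.Decomp
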