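import Groth.Agent.S11125
import Mathlib.Algebra.Homology.ModelCategory.Lifting
import Mathlib.Algebra.Homology.HomotopyCategory.KInjective
import Mathlib.Algebra.Homology.HomotopyCategory.ShiftSequence
import Mathlib.Algebra.Homology.Factorizations.Basic
import Mathlib.Algebra.Homology.Double
import Mathlib.Algebra.Homology.Single
import Mathlib.Algebra.Homology.HomologySequenceLemmas
import Mathlib.Algebra.Homology.HomologicalComplexAbelian
import Mathlib.CategoryTheory.Abelian.EpiWithInjectiveKernel
import Mathlib.CategoryTheory.MorphismProperty.LiftingProperty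

/-!
# Lifting lemmas for the construction of K-injective resolutions

* `fib`: degreewise epimorphisms with injective kernel and bounded below source.
* `lifting_of_mono_quasiIso`: monomorphic quasi-isomorphisms have the left lifting property
  with respect to `fib`.
* `quasiIso_of_mono_of_llp`: a monomorphism which has the left lifting property with respect
  to `fib` is a quasi-isomorphism.
* `exists_lift_of_nullHomotopic`: obstruction theory for extension of maps to a complex with
  injective terms.
-/

set_option autoImplicit false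
universe v u

namespace Groth.Agent.H5.KInj

open CategoryTheory Limits CochainComplex HomologicalComplex HomComplex Groth.Agent.S11125

variable {A : Type u} [Category.{v} A] [Abelian A]

/-- Degreewise epimorphisms with injective kernels whose source is bounded below. -/
def fib : MorphismProperty (CochainComplex A ℤ) :=
  fun X _ p => degreewiseEpiWithInjectiveKernel p ∧ ∃ d : ℤ, X.IsStrictlyGE d

/-- In a short exact sequence of complexes with acyclic third term, the first map is a
quasi-isomorphism. -/
theorem quasiIso_f_of_acyclic (S : ShortComplex (CochainComplex A ℤ)) (hS : S.ShortExact)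
    (h3 : S.X₃.Acyclic) : QuasiIso S.f := by
  rw [quasiIso_iff]
  intro j
  rw [quasiIsoAt_iff_isIso_homologyMap]
  have z : ∀ n, IsZero (S.X₃.homology n) := fun n => (exactAt_iff_isZero_homology _ _).1 (h3 n)
  have hm : Mono (homologyMap S.f j) :=
    (hS.homology_exact₁ (j - 1) j (by simp)).mono_g ((z (j - 1)).eq_of_src _ _)
  have he : Epi (homologyMap S.f j) :=
    (hS.homology_exact₂ j).epi_f ((z j).eq_of_tgt _ _)
  exact isIso_of_mono_of_epi _

theorem acyclic_shift (K : CochainComplex A ℤ) (hK : K.Acyclic) (n : ℤ) : (K⟦n⟧).Acyclic := by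
  intro a
  rw [exactAt_iff_isZero_homology]
  exact IsZero.of_iso ((exactAt_iff_isZero_homology _ _).1 (hK (n + a)))
    ((CochainComplex.ShiftSequence.shiftIso A n a (n + a) rfl).app K)

set_option backward.defeqAttrib.useBackward true in
/-- Monomorphic quasi-isomorphisms have the left lifting property with respect to `fib`. -/
theorem lifting_of_mono_quasiIso {K L X Y : CochainComplex A ℤ} (i : K ⟶ L) (p : X ⟶ Y)
    [Mono i] [QuasiIso i] (hp : fib p) : HasLiftingProperty i p where
  sq_hasLift {t b} sq := by
    obtain ⟨hp, d, hd⟩ := hp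
    have sq' (n : ℤ) : CommSq (t.f n) (i.f n) (p.f n) (b.f n) :=
      sq.map (HomologicalComplex.eval _ _ n)
    have (n : ℤ) : (sq' n).HasLift := by
      have := (hp n).hasLiftingProperty (i.f n)
      infer_instance
    let β : Cocycle (cokernel i) (kernel p) 1 :=
      Lifting.cocycle₁ sq (fun n ↦ { l := (sq' n).lift })
        (cokernelIsCokernel i) (kernelIsKernel p) (hπ := by simp) (hι := by simp)
    have (n : ℤ) : Injective ((kernel p).X n) :=
      Injective.of_iso
        (asIso (kernelComparison p (HomologicalComplex.eval _ _ n))).symm (hp n).2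
    have : (kernel p).IsKInjective := by
      have : (kernel p).IsStrictlyGE d := by
        rw [isStrictlyGE_iff]
        intro i hi
        rw [IsZero.iff_id_eq_zero, ← cancel_mono ((kernel.ι p).f i)]
        apply (X.isZero_of_isStrictlyGE d i).eq_of_tgt
      exact isKInjective_of_injective _ d
    obtain ⟨α, hα⟩ : ∃ (α : Cochain (cokernel i) (kernel p) 0), δ 0 1 α = β.1 := by
      refine IsKInjective.eq_δ_of_cocycle β ?_ 0 (by simp)
      have : (ShortComplex.mk _ _ (cokernel.condition i)).ShortExact :=
        { exact := ShortComplex.exact_cokernel i }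
      exact this.acyclic_X₃ (by dsimp; infer_instance)
    exact Lifting.hasLift sq _ (cokernelIsCokernel _) (kernelIsKernel _) α hα

theorem le_llp_fib {K L : CochainComplex A ℤ} (i : K ⟶ L) [Mono i] [QuasiIso i] :
    (fib (A := A)).llp i :=
  fun _ _ p hp => lifting_of_mono_quasiIso i p hp

/-! ## The test fibrations `disk n E ⟶ single n E` -/

/-- The canonical map from the disk complex to the single complex. -/
noncomputable def diskToSingle (n : ℤ) (E : A) :
    disk n E ⟶ (HomologicalComplex.single A (ComplexShape.up ℤ) n).obj E :=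
  HomologicalComplex.mkHomToSingle (HomologicalComplex.doubleXIso₀ (𝟙 E) (hrel n)).hom
    (fun k _ => by
      rw [HomologicalComplex.double_d_eq_zero₁ _ _ _ _ (by omega : n ≠ n + 1), zero_comp])

theorem diskToSingle_f (n : ℤ) (E : A) :
    (diskToSingle n E).f n = (HomologicalComplex.doubleXIso₀ (𝟙 E) (hrel n)).hom ≫
      (HomologicalComplex.singleObjXSelf (ComplexShape.up ℤ) n E).inv := by
  dsimp only [diskToSingle]
  rw [HomologicalComplex.mkHomToSingle_f]

theorem fib_diskToSingle (n : ℤ) (E : A) [Injective E] : fib (diskToSingle n E) := by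
  refine ⟨fun k => ?_, n, ?_⟩
  · by_cases hk : k = n
    · subst hk
      have : IsIso ((diskToSingle k E).f k) := by
        rw [diskToSingle_f]
        infer_instance
      exact Abelian.epiWithInjectiveKernel_of_iso _
    · rw [Abelian.epiWithInjectiveKernel_iff_of_isZero _
        (HomologicalComplex.isZero_single_obj_X (ComplexShape.up ℤ) n E k hk)]
      by_cases hk1 : k = n + 1
      · subst hk1
        exact Injective.of_iso
          (HomologicalComplex.doubleXIso₁ (𝟙 E) (hrel n) (by omega)).symm inferInstance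
      · exact (HomologicalComplex.isZero_double_X (𝟙 E) (hrel n) k hk hk1).injective
  · rw [isStrictlyGE_iff]
    intro i hi
    exact HomologicalComplex.isZero_double_X (𝟙 E) (hrel n) i (by omega) (by omega)

/-- A monomorphism with the left lifting property with respect to `fib` is a
quasi-isomorphism. -/
theorem quasiIso_of_mono_of_llp [EnoughInjectives A] {X Y : CochainComplex A ℤ} (i : X ⟶ Y)
    [Mono i] (hi : (fib (A := A)).llp i) : QuasiIso i := by
  let S := ShortComplex.mk i (cokernel.π i) (cokernel.condition i)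
  have hS : S.ShortExact := { exact := ShortComplex.exact_cokernel i }
  refine quasiIso_f_of_acyclic S hS (fun n => ?_)
  change (cokernel i).ExactAt n
  generalize hQ : cokernel i = Q
  let E := Injective.under (Q.homology n)
  let ιE : Q.homology n ⟶ E := Injective.ι (Q.homology n)
  let ext : Q.opcycles n ⟶ E := Injective.factorThru ιE (Q.homologyι n)
  have hext : Q.homologyι n ≫ ext = ιE := Injective.comp_factorThru _ _
  let gn : Q.X n ⟶ E := Q.pOpcycles n ≫ ext
  have hgn : ∀ k, Q.d k n ≫ gn = 0 := fun k => by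
    dsimp only [gn]
    rw [HomologicalComplex.d_pOpcycles_assoc, zero_comp]
  let g : Q ⟶ (HomologicalComplex.single A (ComplexShape.up ℤ) n).obj E :=
    HomologicalComplex.mkHomToSingle gn (fun k _ => hgn k)
  have hg : g.f n = gn ≫ (HomologicalComplex.singleObjXSelf (ComplexShape.up ℤ) n E).inv :=
    HomologicalComplex.mkHomToSingle_f _ _
  subst hQ
  have hp : fib (diskToSingle n E) := fib_diskToSingle n E
  have sq : CommSq (0 : X ⟶ disk n E) i (diskToSingle n E) (cokernel.π i ≫ g) :=
    ⟨by rw [zero_comp, cokernel.condition_assoc, zero_comp]⟩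
  have := hi _ hp
  have hl1 : i ≫ sq.lift = 0 := sq.fac_left
  have hl2 : sq.lift ≫ diskToSingle n E = cokernel.π i ≫ g := sq.fac_right
  let l' : cokernel i ⟶ disk n E := cokernel.desc i sq.lift hl1
  have hl' : l' ≫ diskToSingle n E = g := by
    rw [← cancel_epi (cokernel.π i), ← hl2, cokernel.π_desc_assoc]
  have h1 : l'.f n ≫ (HomologicalComplex.doubleXIso₀ (𝟙 E) (hrel n)).hom = gn := by
    have h := HomologicalComplex.congr_hom hl' n
    rw [HomologicalComplex.comp_f, diskToSingle_f, hg, ← Category.assoc, cancel_mono] at h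
    exact h
  have h2 : gn = (cokernel i).d n (n + 1) ≫ l'.f (n + 1) ≫
      (HomologicalComplex.doubleXIso₁ (𝟙 E) (hrel n) (by omega)).hom := by
    have hc := l'.comm n (n + 1)
    rw [HomologicalComplex.double_d _ _ (by omega : n ≠ n + 1)] at hc
    have hc' := congrArg
      (fun z => z ≫ (HomologicalComplex.doubleXIso₁ (𝟙 E) (hrel n) (by omega)).hom) hc
    simp only [Category.assoc, Iso.inv_hom_id, Category.comp_id, Category.id_comp] at hc'
    rw [← h1]
    exact hc'
  have h3 : (cokernel i).iCycles n ≫ gn = 0 := by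
    rw [h2, HomologicalComplex.iCycles_d_assoc, zero_comp]
  have h4 : (cokernel i).homologyπ n ≫ ιE = 0 := by
    rw [← hext, HomologicalComplex.homology_π_ι_assoc]
    exact h3
  have h5 : ιE = 0 := by
    rw [← cancel_epi ((cokernel i).homologyπ n), h4, comp_zero]
  rw [exactAt_iff_isZero_homology]
  exact IsZero.of_mono_eq_zero ιE h5

/-! ## Obstruction theory -/

set_option backward.defeqAttrib.useBackward true in
set_option backward.isDefEq.respectTransparency false in
/-- If all maps `K⟦-1⟧ ⟶ L` are null-homotopic, all `1`-cocycles from `K` to `L` are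
coboundaries. -/
theorem eq_δ_of_nullHomotopic {K L : CochainComplex A ℤ} (z : Cocycle K L 1)
    (H : ∀ ψ : K⟦(-1 : ℤ)⟧ ⟶ L, Nonempty (Homotopy ψ 0)) :
    ∃ α : Cochain K L 0, δ 0 1 α = z.1 := by
  obtain ⟨φ, hφ⟩ := (Cocycle.equivHom _ _).surjective (z.leftShift (-1) 0 (by simp))
  rw [Cocycle.ext_iff] at hφ
  dsimp at hφ
  obtain ⟨h⟩ := H φ
  obtain ⟨f, hf⟩ := Cochain.equivHomotopy _ _ h
  simp only [Cochain.ofHom_zero, add_zero] at hf
  refine ⟨(-1 : ℤ).negOnePow • Cochain.leftUnshift f 0 (by simp), ?_⟩
  apply (Cochain.leftShiftAddEquiv _ _ 1 (-1) 0 (by simp)).injective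
  dsimp
  rw [← hφ, hf, δ_units_smul, Cochain.leftShift_units_smul,
    Cochain.δ_leftUnshift _ _ _ _ 0 (by simp)]
  simp [smul_smul]

/-- Extension of maps along a monomorphism `S.f` into a complex with injective terms,
provided all maps from `S.X₃⟦-1⟧` are null-homotopic. -/
theorem exists_lift_of_nullHomotopic (I : CochainComplex A ℤ) [∀ n, Injective (I.X n)]
    (S : ShortComplex (CochainComplex A ℤ)) (hS : S.ShortExact)
    (H : ∀ ψ : S.X₃⟦(-1 : ℤ)⟧ ⟶ I, Nonempty (Homotopy ψ 0)) (φ : S.X₁ ⟶ I) :
    ∃ ψ : S.X₂ ⟶ I, S.f ≫ ψ = φ := by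
  have sq : CommSq φ S.f (0 : I ⟶ I) (0 : S.X₂ ⟶ I) := ⟨by simp⟩
  have hmono : ∀ n, Mono (S.f.f n) := fun n =>
    (hS.map_of_exact (HomologicalComplex.eval A (ComplexShape.up ℤ) n)).mono_f
  let l : ∀ n, S.X₂.X n ⟶ I.X n := fun n =>
    haveI := hmono n
    Injective.factorThru (φ.f n) (S.f.f n)
  have hl : ∀ n, S.f.f n ≫ l n = φ.f n := fun n =>
    haveI := hmono n
    Injective.comp_factorThru _ _
  let hsq : ∀ n, (sq.map (HomologicalComplex.eval _ _ n)).LiftStruct := fun n =>
    { l := l n
      fac_left := hl n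
      fac_right := by
        change l n ≫ (0 : I.X n ⟶ I.X n) = 0
        exact comp_zero }
  have := hS.epi_g
  have hQ : IsColimit (CokernelCofork.ofπ S.g S.zero) := hS.exact.gIsCokernel
  have hK : IsLimit (KernelFork.ofι (𝟙 I) (show 𝟙 I ≫ (0 : I ⟶ I) = 0 from comp_zero)) :=
    KernelFork.IsLimit.ofId _ rfl
  obtain ⟨α, hα⟩ := eq_δ_of_nullHomotopic (Lifting.cocycle₁ sq hsq hQ hK) H
  have := Lifting.hasLift sq hsq hQ hK α hα
  exact ⟨sq.lift, sq.fac_left⟩

/-- A map which extends to the cone of the identity is null-homotopic. -/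
theorem nullHomotopic_of_extends {K I : CochainComplex A ℤ} (f : K ⟶ I)
    (ψ : mappingCone (𝟙 K) ⟶ I) (hψ : mappingCone.inr (𝟙 K) ≫ ψ = f) :
    Nonempty (Homotopy f 0) := by
  have h0 : Homotopy (𝟙 (mappingCone (𝟙 K))) 0 := mappingCone.homotopyToZeroOfId K
  have hψ0 : Homotopy ψ 0 :=
    (Homotopy.ofEq (by simp)).trans ((h0.compRight ψ).trans (Homotopy.ofEq (by simp)))
  exact ⟨(Homotopy.ofEq hψ.symm).trans
    ((hψ0.compLeft (mappingCone.inr (𝟙 K))).trans (Homotopy.ofEq (by simp)))⟩

theorem acyclic_cone_id (K : CochainComplex A ℤ) : (mappingCone (𝟙 K)).Acyclic :=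
  fun n => exactAt_of_homotopy_id_zero _ (mappingCone.homotopyToZeroOfId K) n

theorem quasiIso_of_acyclic {K L : CochainComplex A ℤ} (j : K ⟶ L) (h₁ : K.Acyclic)
    (h₂ : L.Acyclic) : QuasiIso j :=
  ⟨fun i => (quasiIsoAt_iff_exactAt j i (h₁ i)).2 (h₂ i)⟩

end Groth.Agent.H5.KInj
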