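import Groth.Agent.H5.KInj.Lifting
import Mathlib.CategoryTheory.Abelian.GrothendieckCategory.Basic
import Mathlib.CategoryTheory.Abelian.Refinements
import Mathlib.CategoryTheory.Subobject.Limits
import Mathlib.CategoryTheory.Subobject.Lattice
import Mathlib.CategoryTheory.Generator.Basic

/-!
# Small acyclic subcomplexes

Let `A` be a Grothendieck abelian category with a separator `G`. We show that any nonzero
acyclic cochain complex `Q` contains a nonzero acyclic subcomplex `N` all of whose terms are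
quotients of a fixed object `bigP G` (independent of `Q`).
-/

set_option autoImplicit false
universe v u

namespace Groth.Agent.H5.KInj

open CategoryTheory Limits Groth.Agent.S11125

variable {A : Type u} [Category.{v} A] [Abelian A]

/-! ## Generalities on images -/

theorem exists_refinement_of_image_le {X X' P : A} (a : X ⟶ P) (a' : X' ⟶ P)
    (h : imageSubobject a ≤ imageSubobject a') :
    ∃ (X'' : A) (p₁ : X'' ⟶ X) (_ : Epi p₁) (p₂ : X'' ⟶ X'), p₁ ≫ a = p₂ ≫ a' := by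
  let c : X ⟶ (imageSubobject a' : A) := factorThruImageSubobject a ≫ Subobject.ofLE _ _ h
  have hc : c ≫ (imageSubobject a').arrow = a := by
    simp only [c, Category.assoc, Subobject.ofLE_arrow, imageSubobject_arrow_comp]
  obtain ⟨X'', p₁, hp₁, p₂, hp⟩ :=
    surjective_up_to_refinements_of_epi (factorThruImageSubobject a') c
  refine ⟨X'', p₁, hp₁, p₂, ?_⟩
  calc p₁ ≫ a = p₁ ≫ c ≫ (imageSubobject a').arrow := by rw [hc]
    _ = (p₂ ≫ factorThruImageSubobject a') ≫ (imageSubobject a').arrow := by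
      rw [← Category.assoc, hp]
    _ = p₂ ≫ a' := by rw [Category.assoc, imageSubobject_arrow_comp]

/-- The subobject `S` is the image of `φ` (formulated up to refinements). -/
structure IsImage {X P : A} (φ : P ⟶ X) (S : Subobject X) : Prop where
  factors : S.Factors φ
  surj : ∀ ⦃W : A⦄ (x : W ⟶ (S : A)), ∃ (W' : A) (π : W' ⟶ W) (_ : Epi π) (y : W' ⟶ P),
    π ≫ x ≫ S.arrow = y ≫ φ

theorem isImage_imageSubobject {X P : A} (φ : P ⟶ X) : IsImage φ (imageSubobject φ) where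
  factors := by
    have := Subobject.factors_comp_arrow (factorThruImageSubobject φ)
    rwa [imageSubobject_arrow_comp] at this
  surj W x := by
    obtain ⟨W', π, hπ, y, h⟩ :=
      surjective_up_to_refinements_of_epi (factorThruImageSubobject φ) x
    exact ⟨W', π, hπ, y, by
      rw [← Category.assoc, h, Category.assoc, imageSubobject_arrow_comp]⟩

theorem IsImage.epi_factorThru {X P : A} {φ : P ⟶ X} {S : Subobject X} (h : IsImage φ S) :
    Epi (S.factorThru φ h.factors) := by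
  rw [epi_iff_surjective_up_to_refinements]
  intro W x
  obtain ⟨W', π, hπ, y, hy⟩ := h.surj x
  refine ⟨W', π, hπ, y, ?_⟩
  rw [← cancel_mono S.arrow, Category.assoc, Category.assoc, Subobject.factorThru_arrow, hy]

theorem factors_of_epi_comp {X Y Z : A} (S : Subobject Y) (e : Z ⟶ X) [Epi e] (f : X ⟶ Y)
    (h : S.Factors (e ≫ f)) : S.Factors f := by
  have := strongEpi_of_epi e
  have sq : CommSq (S.factorThru (e ≫ f) h) e S.arrow f :=
    ⟨by rw [Subobject.factorThru_arrow]⟩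
  have := Subobject.factors_comp_arrow (P := S) sq.lift
  rwa [sq.fac_right] at this

theorem factors_of_isImage {X X' P P' : A} {φ : P ⟶ X} {S : Subobject X} (hS : IsImage φ S)
    {φ' : P' ⟶ X'} {S' : Subobject X'} (hS' : S'.Factors φ') (d : X ⟶ X') (ψ : P ⟶ P')
    (h : φ ≫ d = ψ ≫ φ') : S'.Factors (S.arrow ≫ d) := by
  have := hS.epi_factorThru
  apply factors_of_epi_comp S' (S.factorThru φ hS.factors)
  rw [← Category.assoc, Subobject.factorThru_arrow, h]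
  exact Subobject.factors_of_factors_right ψ hS'

theorem exact_of_isImage {X₀ X₁ X₂ : A} (d₀ : X₀ ⟶ X₁) (d₁ : X₁ ⟶ X₂) {P P' : A}
    {φ : P ⟶ X₁} {φ' : P' ⟶ X₀} {S : Subobject X₁} {S' : Subobject X₀}
    (hS : IsImage φ S) (hS' : S'.Factors φ')
    (hstep : ∀ ⦃W : A⦄ (y : W ⟶ P), y ≫ φ ≫ d₁ = 0 →
      ∃ (W' : A) (π : W' ⟶ W) (_ : Epi π) (y'' : W' ⟶ P'), π ≫ y ≫ φ = y'' ≫ φ' ≫ d₀)
    ⦃W : A⦄ (x : W ⟶ (S : A)) (hx : x ≫ S.arrow ≫ d₁ = 0) :
    ∃ (W' : A) (π : W' ⟶ W) (_ : Epi π) (x₁ : W' ⟶ (S' : A)),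
      π ≫ x ≫ S.arrow = x₁ ≫ S'.arrow ≫ d₀ := by
  obtain ⟨W₁, π₁, hπ₁, y, h₁⟩ := hS.surj x
  have hy : y ≫ φ ≫ d₁ = 0 := by
    rw [← Category.assoc, ← h₁, Category.assoc, Category.assoc, hx, comp_zero]
  obtain ⟨W₂, π₂, hπ₂, y'', h₂⟩ := hstep y hy
  refine ⟨W₂, π₂ ≫ π₁, epi_comp _ _, y'' ≫ S'.factorThru φ' hS', ?_⟩
  rw [Category.assoc, h₁, h₂, Category.assoc, Subobject.factorThru_arrow_assoc]

theorem arrow_eq_zero_of_eq_bot {X : A} {S : Subobject X} (h : S = ⊥) : S.arrow = 0 := by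
  subst h
  exact Subobject.bot_arrow

theorem isZero_of_eq_bot {X : A} {S : Subobject X} (h : S = ⊥) : IsZero (S : A) := by
  subst h
  exact IsZero.of_iso (isZero_zero A) Subobject.botCoeIsoZero

/-- Any quotient of `P` is the cokernel of a subobject of `P`. -/
theorem exists_iso_cokernel_subobject {C : Type*} [Category C] [Abelian C] {P N : C}
    (e : P ⟶ N) [Epi e] : ∃ R : Subobject P, Nonempty (cokernel R.arrow ≅ N) := by
  let S := ShortComplex.mk (kernelSubobject e).arrow e (kernelSubobject_arrow_comp e)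
  have hS : S.ShortExact :=
    { exact := by
        rw [ShortComplex.exact_iff_exact_up_to_refinements]
        intro W x₂ hx₂
        exact ⟨W, 𝟙 W, inferInstance,
          (kernelSubobject e).factorThru x₂ (kernelSubobject_factors e x₂ hx₂), by
            rw [Category.id_comp]
            exact (Subobject.factorThru_arrow _ _ _).symm⟩
      mono_f := inferInstanceAs (Mono (kernelSubobject e).arrow)
      epi_g := inferInstanceAs (Epi e) }
  have := hS.epi_g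
  exact ⟨kernelSubobject e,
    ⟨IsColimit.coconePointUniqueUpToIso (cokernelIsCokernel S.f) hS.exact.gIsCokernel⟩⟩

/-! ## One step of the construction -/

section Step

variable [IsGrothendieckAbelian.{v} A] (G : A)

/-- A coproduct of copies of `G` indexed by the subobjects of `P`. -/
noncomputable abbrev nextP (P : A) : A := ∐ fun (_ : Shrink.{v} (Subobject P)) => G

variable (Q : CochainComplex A ℤ) (m : ℤ) {P : A} (φ : P ⟶ Q.X (m + 1))

/-- The elements of `P` whose image by `φ` is a cycle. -/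
noncomputable abbrev stepK : A := kernel (φ ≫ Q.d (m + 1) (m + 1 + 1))

noncomputable abbrev stepκ : stepK Q m φ ⟶ Q.X (m + 1) :=
  kernel.ι (φ ≫ Q.d (m + 1) (m + 1 + 1)) ≫ φ

theorem stepκ_d : stepκ Q m φ ≫ Q.d (m + 1) (m + 1 + 1) = 0 := by
  rw [Category.assoc, kernel.condition]

noncomputable abbrev stepM : A := pullback (Q.d m (m + 1)) (stepκ Q m φ)

/-- The subobject of `P` attached to a map `G ⟶ stepM`. -/
noncomputable def stepτ (t : G ⟶ stepM Q m φ) : Subobject P :=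
  imageSubobject (t ≫ pullback.snd (Q.d m (m + 1)) (stepκ Q m φ) ≫
    kernel.ι (φ ≫ Q.d (m + 1) (m + 1 + 1)))

open Classical in
/-- A choice of a map `G ⟶ stepM` for any subobject of `P`. -/
noncomputable def stepT (T : Subobject P) : G ⟶ stepM Q m φ :=
  if h : ∃ t : G ⟶ stepM Q m φ, stepτ G Q m φ t = T then h.choose else 0

theorem stepτ_stepT (t : G ⟶ stepM Q m φ) :
    stepτ G Q m φ (stepT G Q m φ (stepτ G Q m φ t)) = stepτ G Q m φ t := by
  have h : ∃ t' : G ⟶ stepM Q m φ, stepτ G Q m φ t' = stepτ G Q m φ t := ⟨t, rfl⟩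
  rw [stepT, dif_pos h]
  exact h.choose_spec

noncomputable def liftK : nextP G P ⟶ stepK Q m φ :=
  Sigma.desc (fun T' => stepT G Q m φ ((equivShrink (Subobject P)).symm T') ≫
    pullback.snd (Q.d m (m + 1)) (stepκ Q m φ))

noncomputable def liftHom : nextP G P ⟶ Q.X m :=
  Sigma.desc (fun T' => stepT G Q m φ ((equivShrink (Subobject P)).symm T') ≫
    pullback.fst (Q.d m (m + 1)) (stepκ Q m φ))

theorem liftHom_d :
    liftHom G Q m φ ≫ Q.d m (m + 1) =
      (liftK G Q m φ ≫ kernel.ι (φ ≫ Q.d (m + 1) (m + 1 + 1))) ≫ φ := by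
  apply Sigma.hom_ext
  intro T'
  simp only [liftHom, liftK, Sigma.ι_desc_assoc, Category.assoc]
  rw [pullback.condition]

variable {G} in
theorem epi_liftK (hG : IsSeparator G)
    (hex : ∀ ⦃W : A⦄ (x : W ⟶ Q.X (m + 1)), x ≫ Q.d (m + 1) (m + 1 + 1) = 0 →
      ∃ (W' : A) (π : W' ⟶ W) (_ : Epi π) (x₁ : W' ⟶ Q.X m), π ≫ x = x₁ ≫ Q.d m (m + 1)) :
    Epi (liftK G Q m φ) := by
  have hsnd : Epi (pullback.snd (Q.d m (m + 1)) (stepκ Q m φ)) := by
    rw [epi_iff_surjective_up_to_refinements]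
    intro W y
    obtain ⟨W', π, hπ, x₁, hx₁⟩ := hex (y ≫ stepκ Q m φ) (by
      rw [Category.assoc, stepκ_d, comp_zero])
    exact ⟨W', π, hπ, pullback.lift x₁ (π ≫ y) (by rw [Category.assoc, hx₁]),
      (pullback.lift_snd _ _ _).symm⟩
  apply Preadditive.epi_of_cancel_zero
  intro Z h hh
  rw [← cancel_epi (pullback.snd (Q.d m (m + 1)) (stepκ Q m φ)), comp_zero]
  apply hG.def
  intro t
  rw [comp_zero]
  have h0 : stepT G Q m φ (stepτ G Q m φ t) ≫
      pullback.snd (Q.d m (m + 1)) (stepκ Q m φ) ≫ h = 0 := by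
    have := Sigma.ι (fun (_ : Shrink.{v} (Subobject P)) => G)
      (equivShrink (Subobject P) (stepτ G Q m φ t)) ≫= hh
    rw [liftK, Sigma.ι_desc_assoc, comp_zero, Equiv.symm_apply_apply, Category.assoc] at this
    exact this
  obtain ⟨X'', p₁, hp₁, p₂, hp⟩ := exists_refinement_of_image_le
    (t ≫ pullback.snd (Q.d m (m + 1)) (stepκ Q m φ) ≫ kernel.ι (φ ≫ Q.d (m + 1) (m + 1 + 1)))
    (stepT G Q m φ (stepτ G Q m φ t) ≫ pullback.snd (Q.d m (m + 1)) (stepκ Q m φ) ≫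
      kernel.ι (φ ≫ Q.d (m + 1) (m + 1 + 1)))
    (le_of_eq (stepτ_stepT G Q m φ t).symm)
  have hp' : p₁ ≫ t ≫ pullback.snd (Q.d m (m + 1)) (stepκ Q m φ) =
      p₂ ≫ stepT G Q m φ (stepτ G Q m φ t) ≫ pullback.snd (Q.d m (m + 1)) (stepκ Q m φ) := by
    rw [← cancel_mono (kernel.ι (φ ≫ Q.d (m + 1) (m + 1 + 1)))]
    simpa only [Category.assoc] using hp
  rw [← cancel_epi p₁, comp_zero, ← Category.assoc, ← Category.assoc, Category.assoc p₁, hp',
    Category.assoc, Category.assoc, h0, comp_zero]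

variable {G} in
theorem liftHom_exact (hG : IsSeparator G)
    (hex : ∀ ⦃W : A⦄ (x : W ⟶ Q.X (m + 1)), x ≫ Q.d (m + 1) (m + 1 + 1) = 0 →
      ∃ (W' : A) (π : W' ⟶ W) (_ : Epi π) (x₁ : W' ⟶ Q.X m), π ≫ x = x₁ ≫ Q.d m (m + 1))
    ⦃W : A⦄ (y : W ⟶ P) (hy : y ≫ φ ≫ Q.d (m + 1) (m + 1 + 1) = 0) :
    ∃ (W' : A) (π : W' ⟶ W) (_ : Epi π) (y'' : W' ⟶ nextP G P),
      π ≫ y ≫ φ = y'' ≫ liftHom G Q m φ ≫ Q.d m (m + 1) := by
  have := epi_liftK Q m φ hG hex
  obtain ⟨W', π, hπ, y'', h⟩ :=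
    surjective_up_to_refinements_of_epi (liftK G Q m φ) (kernel.lift _ y hy)
  refine ⟨W', π, hπ, y'', ?_⟩
  rw [liftHom_d, ← Category.assoc y'', ← Category.assoc y'', ← h, Category.assoc,
    Category.assoc, kernel.lift_ι_assoc]

end Step

/-! ## The global construction -/

section Global

variable [IsGrothendieckAbelian.{v} A] (G : A)

/-- The sequence of generating objects. -/
noncomputable def Pobj : ℕ → A
  | 0 => G
  | (k + 1) => nextP G (Pobj k)

/-- The big generating object. -/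
noncomputable abbrev bigP : A := ∐ fun k : ℕ => Pobj G k

noncomputable def proj (k : ℕ) : bigP G ⟶ Pobj G k :=
  Sigma.desc (fun j => if h : j = k then eqToHom (by rw [h]) else 0)

theorem ι_proj (k : ℕ) : Sigma.ι (fun k : ℕ => Pobj G k) k ≫ proj G k = 𝟙 _ := by
  simp [proj]

instance (k : ℕ) : Epi (proj G k) := epi_of_epi_fac (ι_proj G k)

variable (Q : CochainComplex A ℤ)

open Classical in
/-- A chosen nonzero cycle in degree `m`, if there is one. -/
noncomputable def base (m : ℤ) : G ⟶ Q.X m :=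
  if h : ∃ g : G ⟶ Q.X m, g ≠ 0 ∧ g ≫ Q.d m (m + 1) = 0 then h.choose else 0

theorem base_d (m : ℤ) : base G Q m ≫ Q.d m (m + 1) = 0 := by
  unfold base
  split_ifs with h
  · exact h.choose_spec.2
  · exact zero_comp

theorem base_ne_zero (m : ℤ) (h : ∃ g : G ⟶ Q.X m, g ≠ 0 ∧ g ≫ Q.d m (m + 1) = 0) :
    base G Q m ≠ 0 := by
  unfold base
  rw [dif_pos h]
  exact h.choose_spec.1

/-- The sequence of maps defining the small acyclic subcomplex. -/
noncomputable def seq : ∀ (k : ℕ) (m : ℤ), Pobj G k ⟶ Q.X m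
  | 0, m => base G Q m
  | (k + 1), m => liftHom G Q m (seq k (m + 1))

theorem seq_zero_d (m : ℤ) : seq G Q 0 m ≫ Q.d m (m + 1) = 0 := base_d G Q m

theorem seq_succ_d (k : ℕ) (m : ℤ) : ∃ ψ : Pobj G (k + 1) ⟶ Pobj G k,
    seq G Q (k + 1) m ≫ Q.d m (m + 1) = ψ ≫ seq G Q k (m + 1) :=
  ⟨liftK G Q m (seq G Q k (m + 1)) ≫ kernel.ι _, liftHom_d G Q m _⟩

theorem exact_up_to (hQ : Q.Acyclic) (m : ℤ) ⦃W : A⦄ (x : W ⟶ Q.X (m + 1))
    (hx : x ≫ Q.d (m + 1) (m + 1 + 1) = 0) :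
    ∃ (W' : A) (π : W' ⟶ W) (_ : Epi π) (x₁ : W' ⟶ Q.X m), π ≫ x = x₁ ≫ Q.d m (m + 1) :=
  ((Q.exactAt_iff' m (m + 1) (m + 1 + 1) (by simp) (by simp)).1
    (hQ (m + 1))).exact_up_to_refinements x hx

variable {G} in
theorem seq_exact (hG : IsSeparator G) (hQ : Q.Acyclic) (k : ℕ) (m : ℤ) ⦃W : A⦄
    (y : W ⟶ Pobj G k) (hy : y ≫ seq G Q k (m + 1) ≫ Q.d (m + 1) (m + 1 + 1) = 0) :
    ∃ (W' : A) (π : W' ⟶ W) (_ : Epi π) (y'' : W' ⟶ Pobj G (k + 1)),
      π ≫ y ≫ seq G Q k (m + 1) = y'' ≫ seq G Q (k + 1) m ≫ Q.d m (m + 1) :=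
  liftHom_exact Q m _ hG (exact_up_to Q hQ m) y hy

variable (n₀ : ℤ)

noncomputable def img (k : ℕ) (m : ℤ) : Subobject (Q.X m) := imageSubobject (seq G Q k m)

/-- The terms of the small acyclic subcomplex. -/
noncomputable def Nsub (m : ℤ) : Subobject (Q.X m) :=
  if n₀ < m then ⊥ else img G Q (n₀ - m).toNat m

theorem Nsub_of_lt {m : ℤ} (h : n₀ < m) : Nsub G Q n₀ m = ⊥ := if_pos h

theorem Nsub_of_le {m : ℤ} (h : m ≤ n₀) (k : ℕ) (hk : (n₀ - m).toNat = k) :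
    Nsub G Q n₀ m = img G Q k m := by
  subst hk
  exact if_neg (not_lt.2 h)

theorem Nsub_factors (m : ℤ) :
    (Nsub G Q n₀ (m + 1)).Factors ((Nsub G Q n₀ m).arrow ≫ Q.d m (m + 1)) := by
  by_cases h : n₀ < m + 1
  · have hz : (Nsub G Q n₀ m).arrow ≫ Q.d m (m + 1) = 0 := by
      by_cases h' : n₀ < m
      · rw [arrow_eq_zero_of_eq_bot (Nsub_of_lt G Q n₀ h'), zero_comp]
      · rw [Nsub_of_le G Q n₀ (not_lt.1 h') 0 (by omega)]
        exact imageSubobject_arrow_comp_eq_zero (seq_zero_d G Q m)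
    rw [hz]
    exact Subobject.factors_zero
  · have e1 := Nsub_of_le G Q n₀ (not_lt.1 h) (n₀ - (m + 1)).toNat rfl
    have e2 := Nsub_of_le G Q n₀ (m := m) (by omega) ((n₀ - (m + 1)).toNat + 1) (by omega)
    rw [e1, e2]
    obtain ⟨ψ, hψ⟩ := seq_succ_d G Q (n₀ - (m + 1)).toNat m
    exact factors_of_isImage (isImage_imageSubobject _) (isImage_imageSubobject _).factors _ ψ hψ

variable {G} in
theorem Nsub_exact (hG : IsSeparator G) (hQ : Q.Acyclic) (m : ℤ) ⦃W : A⦄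
    (x : W ⟶ ((Nsub G Q n₀ (m + 1) : Subobject (Q.X (m + 1))) : A))
    (hx : x ≫ (Nsub G Q n₀ (m + 1)).arrow ≫ Q.d (m + 1) (m + 1 + 1) = 0) :
    ∃ (W' : A) (π : W' ⟶ W) (_ : Epi π)
      (x₁ : W' ⟶ ((Nsub G Q n₀ m : Subobject (Q.X m)) : A)),
      π ≫ x ≫ (Nsub G Q n₀ (m + 1)).arrow = x₁ ≫ (Nsub G Q n₀ m).arrow ≫ Q.d m (m + 1) := by
  by_cases h : n₀ < m + 1
  · refine ⟨W, 𝟙 W, inferInstance, 0, ?_⟩
    rw [arrow_eq_zero_of_eq_bot (Nsub_of_lt G Q n₀ h), comp_zero, comp_zero, zero_comp]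
  · have e1 := Nsub_of_le G Q n₀ (not_lt.1 h) (n₀ - (m + 1)).toNat rfl
    have e2 := Nsub_of_le G Q n₀ (m := m) (by omega) ((n₀ - (m + 1)).toNat + 1) (by omega)
    have hS : IsImage (seq G Q (n₀ - (m + 1)).toNat (m + 1)) (Nsub G Q n₀ (m + 1)) := by
      rw [e1]
      exact isImage_imageSubobject _
    have hS' : (Nsub G Q n₀ m).Factors (seq G Q ((n₀ - (m + 1)).toNat + 1) m) := by
      rw [e2]
      exact (isImage_imageSubobject _).factors
    exact exact_of_isImage (Q.d m (m + 1)) (Q.d (m + 1) (m + 1 + 1)) hS hS'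
      (seq_exact Q hG hQ _ m) x hx

/-- The small subcomplex. -/
noncomputable def Nc : CochainComplex A ℤ :=
  CochainComplex.of (fun m => ((Nsub G Q n₀ m : Subobject (Q.X m)) : A))
    (fun m => (Nsub G Q n₀ (m + 1)).factorThru _ (Nsub_factors G Q n₀ m))
    (fun m => by
      rw [← cancel_mono (Nsub G Q n₀ (m + 1 + 1)).arrow, Category.assoc,
        Subobject.factorThru_arrow, Subobject.factorThru_arrow_assoc]
      simp only [Category.assoc, HomologicalComplex.d_comp_d, comp_zero, zero_comp])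

theorem Nc_d' (m : ℤ) : (Nc G Q n₀).d m (m + 1) =
    (Nsub G Q n₀ (m + 1)).factorThru _ (Nsub_factors G Q n₀ m) :=
  CochainComplex.of_d (V := A) (fun m => ((Nsub G Q n₀ m : Subobject (Q.X m)) : A))
    (fun m => (Nsub G Q n₀ (m + 1)).factorThru _ (Nsub_factors G Q n₀ m)) m

/-- The inclusion of the small subcomplex. -/
noncomputable def Nι : Nc G Q n₀ ⟶ Q :=
  CochainComplex.ofHom (fun m => (Nsub G Q n₀ m).arrow) (fun m => by
    rw [Nc_d']
    exact (Subobject.factorThru_arrow _ _ _).symm)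

theorem Nι_f (m : ℤ) : (Nι G Q n₀).f m = (Nsub G Q n₀ m).arrow := rfl

instance : Mono (Nι G Q n₀) :=
  HomologicalComplex.mono_of_mono_f _ (fun m => by
    rw [Nι_f]
    exact inferInstanceAs (Mono (Nsub G Q n₀ m).arrow))

variable {G} in
theorem Nc_exact_aux (hG : IsSeparator G) (hQ : Q.Acyclic) (m : ℤ) ⦃W : A⦄
    (x : W ⟶ (Nc G Q n₀).X (m + 1))
    (hx : x ≫ (Nι G Q n₀).f (m + 1) ≫ Q.d (m + 1) (m + 1 + 1) = 0) :
    ∃ (W' : A) (π : W' ⟶ W) (_ : Epi π) (x₁ : W' ⟶ (Nc G Q n₀).X m),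
      π ≫ x ≫ (Nι G Q n₀).f (m + 1) = x₁ ≫ (Nι G Q n₀).f m ≫ Q.d m (m + 1) :=
  Nsub_exact Q n₀ hG hQ m x hx

variable {G} in
theorem Nc_acyclic (hG : IsSeparator G) (hQ : Q.Acyclic) : (Nc G Q n₀).Acyclic := by
  intro j
  obtain ⟨m, rfl⟩ : ∃ m, j = m + 1 := ⟨j - 1, by omega⟩
  rw [HomologicalComplex.exactAt_iff' _ m (m + 1) (m + 1 + 1) (by simp) (by simp),
    ShortComplex.exact_iff_exact_up_to_refinements]
  intro W x₂ hx₂
  let x : W ⟶ (Nc G Q n₀).X (m + 1) := x₂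
  have hx₂' : x ≫ (Nc G Q n₀).d (m + 1) (m + 1 + 1) = 0 := hx₂
  have hx : x ≫ (Nι G Q n₀).f (m + 1) ≫ Q.d (m + 1) (m + 1 + 1) = 0 := by
    rw [(Nι G Q n₀).comm, ← Category.assoc, hx₂', zero_comp]
  obtain ⟨W', π, hπ, x₁, h⟩ := Nc_exact_aux Q n₀ hG hQ m x hx
  refine ⟨W', π, hπ, x₁, ?_⟩
  change π ≫ x = x₁ ≫ (Nc G Q n₀).d m (m + 1)
  rw [← cancel_mono ((Nι G Q n₀).f (m + 1)), Category.assoc, Category.assoc,
    ← (Nι G Q n₀).comm]
  exact h

theorem Nc_not_isZero (h : base G Q n₀ ≠ 0) : ¬ IsZero (Nc G Q n₀) := by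
  intro hz
  have hz' : IsZero ((Nc G Q n₀).X n₀) :=
    (HomologicalComplex.eval _ _ n₀).map_isZero hz
  have e : Nsub G Q n₀ n₀ = img G Q 0 n₀ := Nsub_of_le G Q n₀ le_rfl 0 (by simp)
  have hf : (Nsub G Q n₀ n₀).Factors (seq G Q 0 n₀) := by
    rw [e]
    exact (isImage_imageSubobject _).factors
  apply h
  have h1 : (Nsub G Q n₀ n₀).factorThru _ hf = 0 := hz'.eq_of_tgt _ _
  have h2 : seq G Q 0 n₀ = 0 := by
    rw [← Subobject.factorThru_arrow _ _ hf, h1, zero_comp]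
  exact h2

theorem Nc_gen (m : ℤ) : ∃ e : bigP G ⟶ (Nc G Q n₀).X m, Epi e := by
  by_cases h : n₀ < m
  · exact ⟨0, (isZero_of_eq_bot (Nsub_of_lt G Q n₀ h)).epi _⟩
  · have e := Nsub_of_le G Q n₀ (not_lt.1 h) _ rfl
    have hI : IsImage (seq G Q (n₀ - m).toNat m) (Nsub G Q n₀ m) := by
      rw [e]
      exact isImage_imageSubobject _
    have := hI.epi_factorThru
    let e₀ : Pobj G (n₀ - m).toNat ⟶ ((Nsub G Q n₀ m : Subobject (Q.X m)) : A) :=
      (Nsub G Q n₀ m).factorThru _ hI.factors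
    have h2 : Epi (proj G (n₀ - m).toNat ≫ e₀) := epi_comp _ _
    exact ⟨proj G (n₀ - m).toNat ≫ e₀, h2⟩

variable {G} in
theorem exists_cycle (hG : IsSeparator G) (hQ0 : ¬ IsZero Q) :
    ∃ (m : ℤ) (g : G ⟶ Q.X m), g ≠ 0 ∧ g ≫ Q.d m (m + 1) = 0 := by
  by_contra hcon
  have H : ∀ (m : ℤ) (g : G ⟶ Q.X m), g ≫ Q.d m (m + 1) = 0 → g = 0 := by
    intro m g hg
    by_contra hg0
    exact hcon ⟨m, g, hg0, hg⟩
  have hd : ∀ m : ℤ, Q.d m (m + 1) = 0 := fun m => hG.def _ _ (fun t => by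
    rw [comp_zero]
    exact H (m + 1) (t ≫ Q.d m (m + 1)) (by rw [Category.assoc, Q.d_comp_d, comp_zero]))
  have hX : ∀ m : ℤ, IsZero (Q.X m) := fun m => by
    rw [IsZero.iff_id_eq_zero]
    exact hG.def _ _ (fun t => by
      rw [Category.comp_id, comp_zero]
      exact H m t (by rw [hd, comp_zero]))
  apply hQ0
  rw [IsZero.iff_id_eq_zero]
  ext m
  exact (hX m).eq_of_src _ _

variable {G} in
/-- Any nonzero acyclic complex contains a nonzero acyclic subcomplex with small terms. -/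
theorem exists_small_acyclic_sub (hG : IsSeparator G) (hQ : Q.Acyclic) (hQ0 : ¬ IsZero Q) :
    ∃ (N : CochainComplex A ℤ) (ι : N ⟶ Q), Mono ι ∧ ¬ IsZero N ∧ N.Acyclic ∧
      ∀ m, ∃ e : bigP G ⟶ N.X m, Epi e := by
  obtain ⟨n₀, g, hg⟩ := exists_cycle Q hG hQ0
  exact ⟨Nc G Q n₀, Nι G Q n₀, inferInstance,
    Nc_not_isZero G Q n₀ (base_ne_zero G Q n₀ ⟨g, hg⟩), Nc_acyclic Q n₀ hG hQ, Nc_gen G Q n₀⟩

/-- The fixed complex of which all small complexes are quotients. -/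
noncomputable abbrev bigC : CochainComplex A ℤ := ∐ fun m : ℤ => disk m (bigP G)

theorem exists_epi_of_gen (N : CochainComplex A ℤ) (hN : ∀ m, ∃ e : bigP G ⟶ N.X m, Epi e) :
    ∃ e : bigC G ⟶ N, Epi e := by
  choose e he using hN
  refine ⟨Sigma.desc (fun m => diskHom m N (e m)), ?_⟩
  apply HomologicalComplex.epi_of_epi_f
  intro m
  have h1 : (Sigma.ι (fun m : ℤ => disk m (bigP G)) m).f m ≫
      (Sigma.desc (fun m => diskHom m N (e m))).f m =
      (HomologicalComplex.doubleXIso₀ (𝟙 (bigP G)) (hrel m)).hom ≫ e m := by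
    rw [← HomologicalComplex.comp_f, Sigma.ι_desc]
    dsimp only [diskHom]
    rw [HomologicalComplex.mkHomFromDouble_f₀]
  have := he m
  have : Epi ((HomologicalComplex.doubleXIso₀ (𝟙 (bigP G)) (hrel m)).hom ≫ e m) := epi_comp _ _
  exact epi_of_epi_fac h1

end Global

end Groth.Agent.H5.KInj
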