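import Mathlib.Algebra.Homology.DerivedCategory.KInjective
import Groth.Agent.H3.KInj

/-!
# Products of K-injective complexes in the derived category

If `I : T → CochainComplex A ℤ` is a family of K-injective complexes whose product exists, then
`Q.obj (∏ᶜ I)` is a product of the `Q.obj (I t)` in the derived category.
-/

set_option autoImplicit false
universe w v u

namespace Groth.Agent.H5.KInj

open CategoryTheory Limits DerivedCategory

variable {A : Type u} [Category.{v} A] [Abelian A] [HasDerivedCategory.{w} A]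

theorem exists_Q_map_eq (K L : CochainComplex A ℤ) [L.IsKInjective] (φ : Q.obj K ⟶ Q.obj L) :
    ∃ f : K ⟶ L, Q.map f = φ := by
  obtain ⟨g, hg⟩ := (CochainComplex.IsKInjective.Qh_map_bijective
    ((HomotopyCategory.quotient _ _).obj K) L).surjective
      ((quotientCompQhIso A).hom.app K ≫ φ ≫ (quotientCompQhIso A).inv.app L)
  obtain ⟨f, rfl⟩ := (HomotopyCategory.quotient _ _).map_surjective g
  refine ⟨f, ?_⟩
  have := quotientCompQhIso_hom_naturality f
  rw [hg] at this
  simp only [Category.assoc, Iso.inv_hom_id_app, Category.comp_id] at this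
  exact ((cancel_epi _).1 this).symm

theorem homotopy_of_Q_map_eq {K L : CochainComplex A ℤ} [L.IsKInjective] (f g : K ⟶ L)
    (h : Q.map f = Q.map g) : Nonempty (Homotopy f g) := by
  have h1 : Qh.map ((HomotopyCategory.quotient _ _).map f) =
      Qh.map ((HomotopyCategory.quotient _ _).map g) := by
    rw [← cancel_mono ((quotientCompQhIso A).hom.app L), quotientCompQhIso_hom_naturality,
      quotientCompQhIso_hom_naturality, h]
  exact ⟨HomotopyCategory.homotopyOfEq _ _
    ((CochainComplex.IsKInjective.Qh_map_bijective _ L).injective h1)⟩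

omit [HasDerivedCategory.{w} A] in
theorem homotopy_pi {T : Type*} {K : CochainComplex A ℤ} (I : T → CochainComplex A ℤ)
    [HasProduct I] (f g : K ⟶ ∏ᶜ I)
    (h : ∀ t, Nonempty (Homotopy (f ≫ Pi.π I t) (g ≫ Pi.π I t))) : Nonempty (Homotopy f g) := by
  have hz : ∀ t, ∃ d : CochainComplex.mappingCone (𝟙 K) ⟶ I t,
      CochainComplex.mappingCone.inr (𝟙 K) ≫ d = (f - g) ≫ Pi.π I t := by
    intro t
    obtain ⟨ho⟩ := h t
    have ho' : Homotopy ((f - g) ≫ Pi.π I t) 0 :=
      (Homotopy.ofEq (Preadditive.sub_comp _ _ _)).trans (Homotopy.equivSubZero ho)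
    exact Groth.Agent.H3.exists_desc_of_homotopy _ ho'
  choose d hd using hz
  obtain ⟨h0⟩ := Groth.Agent.H3.nonempty_homotopy_zero_of_factors (f - g) (Pi.lift d) (by
    apply Pi.hom_ext
    intro t
    rw [Category.assoc, Pi.lift_π, hd])
  exact ⟨Homotopy.equivSubZero.symm h0⟩

/-- The image in the derived category of a product of K-injective complexes is a product. -/
theorem isLimit_Q_pi {T : Type*} (I : T → CochainComplex A ℤ) [HasProduct I]
    (h : ∀ t, (I t).IsKInjective) :
    Nonempty (IsLimit (Fan.mk (Q.obj (∏ᶜ I)) (fun t => Q.map (Pi.π I t)))) := by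
  have := Groth.Agent.H3.isKInjective_pi I h
  have huniq : ∀ (X : DerivedCategory A) (m₁ m₂ : X ⟶ Q.obj (∏ᶜ I)),
      (∀ t, m₁ ≫ Q.map (Pi.π I t) = m₂ ≫ Q.map (Pi.π I t)) → m₁ = m₂ := by
    intro X m₁ m₂ hm
    rw [← cancel_epi (Q.objObjPreimageIso X).hom]
    obtain ⟨g₁, hg₁⟩ := exists_Q_map_eq (Q.objPreimage X) (∏ᶜ I)
      ((Q.objObjPreimageIso X).hom ≫ m₁)
    obtain ⟨g₂, hg₂⟩ := exists_Q_map_eq (Q.objPreimage X) (∏ᶜ I)
      ((Q.objObjPreimageIso X).hom ≫ m₂)
    rw [← hg₁, ← hg₂]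
    have hh : ∀ t, Nonempty (Homotopy (g₁ ≫ Pi.π I t) (g₂ ≫ Pi.π I t)) := by
      intro t
      have := h t
      apply homotopy_of_Q_map_eq
      rw [Functor.map_comp, Functor.map_comp, hg₁, hg₂, Category.assoc, Category.assoc, hm t]
    obtain ⟨ho⟩ := homotopy_pi I g₁ g₂ hh
    exact Q_map_eq_of_homotopy A ho
  have hex : ∀ (s : Fan (fun t => Q.obj (I t))), ∃ l : s.pt ⟶ Q.obj (∏ᶜ I),
      ∀ t, l ≫ Q.map (Pi.π I t) = s.proj t := by
    intro s
    have hf : ∀ t, ∃ f : Q.objPreimage s.pt ⟶ I t,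
        Q.map f = (Q.objObjPreimageIso s.pt).hom ≫ s.proj t := fun t => by
      have := h t
      exact exists_Q_map_eq _ _ _
    choose f hf using hf
    refine ⟨(Q.objObjPreimageIso s.pt).inv ≫ Q.map (Pi.lift f), fun t => ?_⟩
    rw [Category.assoc, ← Functor.map_comp, Pi.lift_π, hf, Iso.inv_hom_id_assoc]
  choose lift hlift using hex
  exact ⟨Fan.IsLimit.mk _ lift (fun s t => hlift s t) (fun s m hm =>
    huniq _ _ _ (fun t => by rw [hlift s t]; exact hm t))⟩

theorem hasProduct_Q_obj {T : Type*} (I : T → CochainComplex A ℤ) [HasProduct I]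
    (h : ∀ t, (I t).IsKInjective) : HasProduct (fun t => (Q.obj (I t) : DerivedCategory A)) := by
  obtain ⟨hl⟩ := isLimit_Q_pi I h
  exact HasLimit.mk ⟨_, hl⟩

end Groth.Agent.H5.KInj
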