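import Groth.Agent.H5.KInj.DerivedAdj
import Mathlib.CategoryTheory.Triangulated.Orthogonal

/-!
# Right derived functors of triangulated functors on `K(A)` send distinguished triangles to
distinguished triangles (up to the choice of the outer maps)

`A` Grothendieck abelian.  If `X : K(A) ⥤ H` is triangulated and `RF : D(A) ⥤ H` is a right derived
functor of `X` with unit `β`, then for every distinguished triangle `L ⟶ P ⟶ P' ⟶ L⟦1⟧` of `D(A)`
with middle map `φ` there is a distinguished triangle `RF L ⟶ RF P ⟶ RF P' ⟶ (RF L)⟦1⟧` with middle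
map `RF φ`.
-/

set_option autoImplicit false
universe w v u v' u'
open CategoryTheory Limits Pretriangulated

namespace Groth.Agent.H5.KInjDer

section Triang

variable {A : Type u} [Category.{v} A] [Abelian A] [HasDerivedCategory.{w} A]

variable (A) in
/-- The homotopy classes of K-injective complexes. -/
abbrev KI : ObjectProperty (HomotopyCategory A (ComplexShape.up ℤ)) :=
  (HomotopyCategory.subcategoryAcyclic A).rightOrthogonal

theorem exists_Qh_map_eq (Z Z' : HomotopyCategory A (ComplexShape.up ℤ)) (hZ' : KI A Z')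
    (φ : DerivedCategory.Qh.obj Z ⟶ DerivedCategory.Qh.obj Z') :
    ∃ g : Z ⟶ Z', DerivedCategory.Qh.map g = φ :=
  (ObjectProperty.rightOrthogonal.map_bijective_of_isTriangulated hZ'
    DerivedCategory.Qh Z).2 φ

variable [IsGrothendieckAbelian.{v} A]

theorem exists_KI_iso (P : DerivedCategory A) :
    ∃ Z : HomotopyCategory A (ComplexShape.up ℤ), KI A Z ∧
      Nonempty (P ≅ DerivedCategory.Qh.obj Z) := by
  let P₀ := DerivedCategory.Q.objPreimage P
  have hk : ((ρ₀ A).obj P₀).IsKInjective := ρ₀_kinj A P₀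
  have hq : HomologicalComplex.quasiIso A (ComplexShape.up ℤ) ((ι A).app P₀) := ι_mem A P₀
  have : IsIso (DerivedCategory.Q.map ((ι A).app P₀)) :=
    Localization.inverts DerivedCategory.Q
      (HomologicalComplex.quasiIso A (ComplexShape.up ℤ)) _ hq
  refine ⟨(HomotopyCategory.quotient A (ComplexShape.up ℤ)).obj ((ρ₀ A).obj P₀),
    (CochainComplex.isKInjective_iff_rightOrthogonal _).1 hk, ⟨?_⟩⟩
  exact (DerivedCategory.Q.objObjPreimageIso P).symm ≪≫
    asIso (DerivedCategory.Q.map ((ι A).app P₀)) ≪≫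
    ((DerivedCategory.quotientCompQhIso A).app _).symm

variable {H : Type u'} [Category.{v'} H]
  (X : HomotopyCategory A (ComplexShape.up ℤ) ⥤ H)
  (RF : DerivedCategory A ⥤ H) (β : X ⟶ DerivedCategory.Qh ⋙ RF)
  [RF.IsRightDerivedFunctor β (HomotopyCategory.quasiIso A (ComplexShape.up ℤ))]

theorem isIso_app_of_KI (Z : HomotopyCategory A (ComplexShape.up ℤ)) (hZ : KI A Z) :
    IsIso (β.app Z) := by
  obtain ⟨Z₀, rfl⟩ := HomotopyCategory.quotient_obj_surjective Z
  have : CochainComplex.IsKInjective Z₀ := (CochainComplex.isKInjective_iff_rightOrthogonal Z₀).2 hZ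
  exact isIso_app_quotient_of_isKInjective X RF β Z₀

variable [Preadditive H] [HasZeroObject H] [HasShift H ℤ]
  [∀ n : ℤ, (shiftFunctor H n).Additive] [Pretriangulated H]
  [X.CommShift ℤ] [X.IsTriangulated]

set_option backward.isDefEq.respectTransparency.types false in
set_option backward.defeqAttrib.useBackward true in
include X β in
/-- A right derived functor of a triangulated functor on `K(A)` sends the middle map of a
distinguished triangle to the middle map of a distinguished triangle on the image objects. -/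
theorem exists_distinguished_map {L P P' : DerivedCategory A} (a : L ⟶ P) (φ : P ⟶ P')
    (c : P' ⟶ L⟦(1 : ℤ)⟧) (h : Triangle.mk a φ c ∈ distTriang (DerivedCategory A)) :
    ∃ (a' : RF.obj L ⟶ RF.obj P) (c' : RF.obj P' ⟶ (RF.obj L)⟦(1 : ℤ)⟧),
      Triangle.mk a' (RF.map φ) c' ∈ distTriang H := by
  obtain ⟨Z, hZ, ⟨e⟩⟩ := exists_KI_iso P
  obtain ⟨Z', hZ', ⟨e'⟩⟩ := exists_KI_iso P'
  obtain ⟨g, hg⟩ := exists_Qh_map_eq Z Z' hZ' (e.inv ≫ φ ≫ e'.hom)
  obtain ⟨W, hW, a₀, c₀, hT⟩ := (KI A).distinguished_cocone_triangle₁ g hZ hZ'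
  have hT1 := DerivedCategory.Qh.map_distinguished _ hT
  have hT2 := X.map_distinguished _ hT
  -- the object-level isomorphism `L ≅ Qh W`
  obtain ⟨eL⟩ : Nonempty (L ≅ DerivedCategory.Qh.obj W) := by
    obtain ⟨e'', -, -⟩ := exists_iso_of_arrow_iso _ _ (rot_of_distTriang _ h)
      (rot_of_distTriang _ hT1)
      (Arrow.isoMk e e' (by
        change e.hom ≫ DerivedCategory.Qh.map g = φ ≫ e'.hom
        rw [hg]; simp))
    exact ⟨(shiftFunctor (DerivedCategory A) (1 : ℤ)).preimageIso (Triangle.π₃.mapIso e'')⟩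
  have := isIso_app_of_KI X RF β W hW
  have := isIso_app_of_KI X RF β Z hZ
  have := isIso_app_of_KI X RF β Z' hZ'
  obtain ⟨u₁, -⟩ : ∃ _ : RF.obj L ≅ X.obj W, True :=
    ⟨RF.mapIso eL ≪≫ (asIso (β.app W)).symm, trivial⟩
  obtain ⟨u₂, hu₂⟩ : ∃ u : RF.obj P ≅ X.obj Z, u.hom ≫ β.app Z = RF.map e.hom :=
    ⟨RF.mapIso e ≪≫ (asIso (β.app Z)).symm, by simp⟩
  obtain ⟨u₃, hu₃⟩ : ∃ u : RF.obj P' ≅ X.obj Z', u.hom ≫ β.app Z' = RF.map e'.hom :=
    ⟨RF.mapIso e' ≪≫ (asIso (β.app Z')).symm, by simp⟩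
  refine ⟨u₁.hom ≫ X.map a₀ ≫ u₂.inv,
    u₃.hom ≫ (X.mapTriangle.obj (Triangle.mk a₀ g c₀)).mor₃ ≫ u₁.inv⟦(1 : ℤ)⟧', ?_⟩
  refine isomorphic_distinguished _ hT2 _ (Triangle.isoMk _ _ u₁ u₂ u₃ ?_ ?_ ?_)
  · dsimp
    simp only [Category.assoc, Iso.inv_hom_id, Category.comp_id]
  · dsimp
    have hn := β.naturality g
    simp only [Functor.comp_map] at hn
    rw [← cancel_mono (β.app Z'), Category.assoc, Category.assoc, hu₃, hn, ← Category.assoc, hu₂,
      hg, ← Functor.map_comp, ← Functor.map_comp]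
    simp
  · dsimp
    simp only [Category.assoc, ← Functor.map_comp, Iso.inv_hom_id]
    simp

end Triang

end Groth.Agent.H5.KInjDer
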