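import Groth.Agent.S0476
import Mathlib.CategoryTheory.Localization.DerivabilityStructure.OfFunctorialResolutions
import Mathlib.CategoryTheory.Localization.DerivabilityStructure.Derives
import Mathlib.Algebra.Homology.DerivedCategory.KInjective
import Mathlib.Algebra.Homology.DerivedCategory.ExactFunctor
import Mathlib.CategoryTheory.Functor.Derived.Adjunction
import Mathlib.CategoryTheory.Functor.Derived.PointwiseLeftDerived

/-!
# The K-injective right derivability structure on `CochainComplex B ℤ` for a Grothendieck
abelian category `B`

* `kinj B` : the property of being K-injective, `Φ B` the localizer morphism given by the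
  inclusion of K-injective complexes (relative to quasi-isomorphisms).
* `ρ B`, `ι B`: functorial K-injective resolutions (from the small object argument of `S0476`).
* `instance : (Φ B).IsRightDerivabilityStructure`.
* `derives X hX`: any functor inverting homotopy equivalences is derived by `Φ B`.
* `isIso_app_of_isKInjective`: the unit of a right derived functor is an isomorphism on
  K-injective complexes.
* `isRightDerivedFunctor_of_isIso`, `isRightDerivedFunctor_comp` (absoluteness).
* `adjC`: termwise adjunction on complexes.
-/

set_option autoImplicit false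
universe v u v' u' v'' u''
open CategoryTheory Limits

namespace Groth.Agent.H5.KInjDer

open Groth.Agent.S0476 Groth.Agent.H5.KInj MorphismProperty ZeroObject

section Adj

variable {V : Type*} {W : Type*} [Category V] [Category W] [Preadditive V] [Preadditive W]
  {L : V ⥤ W} {R : W ⥤ V} (adj : L ⊣ R) [L.Additive] [R.Additive]

/-- The termwise adjunction on homological complexes. -/
noncomputable def adjC {ι : Type*} (c : ComplexShape ι) :
    L.mapHomologicalComplex c ⊣ R.mapHomologicalComplex c where
  unit :=
    { app := fun K =>
        { f := fun i => adj.unit.app (K.X i)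
          comm' := fun i j _ => (adj.unit.naturality (K.d i j)).symm }
      naturality := fun K K' f => by
        ext i
        exact adj.unit.naturality (f.f i) }
  counit :=
    { app := fun K =>
        { f := fun i => adj.counit.app (K.X i)
          comm' := fun i j _ => (adj.counit.naturality (K.d i j)).symm }
      naturality := fun K K' f => by
        ext i
        exact adj.counit.naturality (f.f i) }
  left_triangle_components K := by
    ext i
    exact adj.left_triangle_components (K.X i)
  right_triangle_components K := by
    ext i
    exact adj.right_triangle_components (K.X i)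

end Adj

variable (B : Type u) [Category.{v} B] [Abelian B]

/-- K-injective complexes. -/
def kinj : ObjectProperty (CochainComplex B ℤ) := fun I => I.IsKInjective

/-- Quasi-isomorphisms. -/
abbrev Wq : MorphismProperty (CochainComplex B ℤ) :=
  HomologicalComplex.quasiIso B (ComplexShape.up ℤ)

/-- The localizer morphism given by the inclusion of K-injective complexes. -/
abbrev Φ : LocalizerMorphism ((Wq B).inverseImage (kinj B).ι) (Wq B) where
  functor := (kinj B).ι
  map := le_rfl

section derives

variable {B} {H : Type u'} [Category.{v'} H] (X : CochainComplex B ℤ ⥤ H)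

/-- Any functor inverting homotopy equivalences is derived by K-injective complexes. -/
theorem derives
    (hX : (HomologicalComplex.homotopyEquivalences B (ComplexShape.up ℤ)).IsInvertedBy X) :
    (Φ B).Derives X := by
  intro I I' f hf
  have h1 : ((kinj B).ι.obj I).IsKInjective := I.property
  have h2 : ((kinj B).ι.obj I').IsKInjective := I'.property
  have hq : QuasiIso ((kinj B).ι.map f) := (HomologicalComplex.mem_quasiIso_iff _).1 hf
  exact hX _ ((CochainComplex.IsKInjective.quasiIso_iff ((kinj B).ι.map f)).1 hq)

/-- Termwise additive functors followed by the localization invert homotopy equivalences. -/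
theorem inverts_map_Q {A : Type u''} [Category.{v''} A] [Abelian A] [HasDerivedCategory A]
    (G : B ⥤ A) [G.Additive] :
    (HomologicalComplex.homotopyEquivalences B (ComplexShape.up ℤ)).IsInvertedBy
      (G.mapHomologicalComplex (ComplexShape.up ℤ) ⋙ DerivedCategory.Q) := by
  rintro K L _ ⟨e, rfl⟩
  have h : HomologicalComplex.quasiIso A (ComplexShape.up ℤ)
      ((G.mapHomologicalComplex (ComplexShape.up ℤ)).map e.hom) :=
    homotopyEquivalences_le_quasiIso A (ComplexShape.up ℤ) _
      (G.mapHomotopyEquiv e).homotopyEquivalences_hom
  exact Localization.inverts DerivedCategory.Q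
    (HomologicalComplex.quasiIso A (ComplexShape.up ℤ)) _ h

end derives

section Resolution

variable [IsGrothendieckAbelian.{v} B]

/-- The functor `X ↦ (X ⟶ 0)`. -/
noncomputable def toZeroArrow : CochainComplex B ℤ ⥤ Arrow (CochainComplex B ℤ) where
  obj X := Arrow.mk (0 : X ⟶ 0)
  map f := Arrow.homMk f (𝟙 0) (by simp)
  map_id X := by ext <;> simp
  map_comp f g := by ext <;> simp

/-- The functorial factorization from the small object argument. -/
noncomputable def data : FunctorialFactorizationData (J' (separator B)).rlp.llp
    (J' (separator B)).rlp :=
  functorialFactorizationData _ _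

/-- The underlying complex of the functorial K-injective resolution. -/
noncomputable def ρ₀ : CochainComplex B ℤ ⥤ CochainComplex B ℤ := toZeroArrow B ⋙ (data B).Z

theorem ρ₀_kinj (X : CochainComplex B ℤ) : kinj B ((ρ₀ B).obj X) :=
  (kinj_of_rlp ((data B).p.app ((toZeroArrow B).obj X)) (isZero_zero _)
    ((data B).hp _) (isSeparator_separator B)).1

/-- The functorial K-injective resolution. -/
noncomputable def ρ : CochainComplex B ℤ ⥤ (kinj B).FullSubcategory :=
  (kinj B).lift (ρ₀ B) (ρ₀_kinj B)

/-- The resolution morphism. -/
noncomputable def ι : 𝟭 (CochainComplex B ℤ) ⟶ ρ B ⋙ (Φ B).functor where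
  app X := (data B).i.app ((toZeroArrow B).obj X)
  naturality X Y f := (data B).i.naturality ((toZeroArrow B).map f)

theorem ι_mem (X : CochainComplex B ℤ) : Wq B ((ι B).app X) := by
  have h2 : (J' (separator B)).rlp.llp ≤ (fib (A := B)).llp :=
    antitone_llp ((le_llp_iff_le_rlp _ _).1 (J'_le_llp_fib (separator B)))
  have h1 : (J' (separator B)).rlp.llp ≤ monomorphisms (CochainComplex B ℤ) := by
    rw [← IsGrothendieckAbelian.llp_rlp_monomorphisms
      (isSeparator_separator (CochainComplex B ℤ))]
    exact antitone_llp (antitone_rlp (J'_le_mono (separator B)))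
  have hi := (data B).hi ((toZeroArrow B).obj X)
  have hmono : Mono ((ι B).app X) := h1 _ hi
  exact (HomologicalComplex.mem_quasiIso_iff _).2
    (quasiIso_of_mono_of_llp ((ι B).app X) (h2 _ hi))

instance : (Φ B).IsRightDerivabilityStructure :=
  (Φ B).isRightDerivabilityStructure_of_functorial_resolutions (ι B) (ι_mem B) rfl

end Resolution

section Derived

variable {B} [IsGrothendieckAbelian.{v} B] {H : Type u'} [Category.{v'} H]
  (X : CochainComplex B ℤ ⥤ H)
  (hX : (HomologicalComplex.homotopyEquivalences B (ComplexShape.up ℤ)).IsInvertedBy X)
  {D₂ : Type u''} [Category.{v''} D₂] {L₂ : CochainComplex B ℤ ⥤ D₂} [L₂.IsLocalization (Wq B)]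
  {RF : D₂ ⥤ H} (α : X ⟶ L₂ ⋙ RF)

include hX

/-- The unit of a right derived functor is an isomorphism on K-injective complexes. -/
theorem isIso_app_of_isKInjective [RF.IsRightDerivedFunctor α (Wq B)]
    (I : CochainComplex B ℤ) [hI : I.IsKInjective] : IsIso (α.app I) :=
  (derives X hX).isIso_of_isRightDerivedFunctor α ⟨I, hI⟩

/-- A functor with a unit which is an isomorphism on K-injective complexes is a right derived
functor. -/
theorem isRightDerivedFunctor_of_isIso
    (hα : ∀ (I : CochainComplex B ℤ), I.IsKInjective → IsIso (α.app I)) :
    RF.IsRightDerivedFunctor α (Wq B) :=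
  (derives X hX).isRightDerivedFunctor_of_isIso α (fun I => hα I.obj I.property)

/-- Right derived functors (of functors inverting homotopy equivalences) are absolute. -/
theorem isRightDerivedFunctor_comp [RF.IsRightDerivedFunctor α (Wq B)]
    {H' : Type*} [Category H'] (T : H ⥤ H') :
    (RF ⋙ T).IsRightDerivedFunctor
      (Functor.whiskerRight α T ≫ (Functor.associator L₂ RF T).hom) (Wq B) := by
  have hXT : (HomologicalComplex.homotopyEquivalences B (ComplexShape.up ℤ)).IsInvertedBy
      (X ⋙ T) := fun K L f hf => by
    have := hX f hf
    exact inferInstanceAs (IsIso (T.map (X.map f)))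
  refine isRightDerivedFunctor_of_isIso (X ⋙ T) hXT _ (fun I hI => ?_)
  have := isIso_app_of_isKInjective X hX α I
  simp only [NatTrans.comp_app, Functor.whiskerRight_app, Functor.associator_hom_app,
    Category.comp_id]
  infer_instance

end Derived

end Groth.Agent.H5.KInjDer
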